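import Mathlib
import Cfsg.Agent.Lib.TwoGrp.Three
import Cfsg.Agent.Lib.Fit.PGroup
import Cfsg.Agent.Lib.Fit.Core

/-!
# Counting tools for finite 2-groups (towards Harada's theorem)
-/

set_option autoImplicit false

namespace Cfsg.Agent.TwoGrp

open Subgroup

section Lg

variable {S : Type*} [Group S]

/-- The binary logarithm of the order of a subgroup. -/
noncomputable def lg (H : Subgroup S) : ℕ := Nat.log 2 (Nat.card H)

theorem lg_eq_of_card {H : Subgroup S} {k : ℕ} (h : Nat.card H = 2 ^ k) : lg H = k := by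
  rw [lg, h, Nat.log_pow (by norm_num)]

theorem lg_bot : lg (⊥ : Subgroup S) = 0 := lg_eq_of_card (by simp)

theorem mem_C {x y : S} : y ∈ centralizer ({x} : Set S) ↔ y * x = x * y :=
  mem_centralizer_singleton_iff

theorem comm_mem_of_sq {H N : Subgroup S} (h : ∀ x ∈ H, x * x ∈ N) {x y : S} (hx : x ∈ H)
    (hy : y ∈ H) : x * y * x⁻¹ * y⁻¹ ∈ N := by
  have := mul_mem (mul_mem (h x hx) (h _ (mul_mem (inv_mem hx) hy))) (h _ (inv_mem hy))
  rwa [show x * x * (x⁻¹ * y * (x⁻¹ * y)) * (y⁻¹ * y⁻¹) = x * y * x⁻¹ * y⁻¹ by group] at this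

theorem comm_of_sq {A : Subgroup S} (h : ∀ x ∈ A, x * x = 1) {x y : S} (hx : x ∈ A)
    (hy : y ∈ A) : x * y = y * x := by
  have := comm_mem_of_sq (N := ⊥) (fun x hx => mem_bot.mpr (h x hx)) hx hy
  rwa [mem_bot, mul_inv_eq_one, mul_inv_eq_iff_eq_mul] at this

/-- Extension of a subgroup by a normalizing element whose square lies in it. -/
def ext2 (M : Subgroup S) (b : S) (hb : b * b ∈ M) (hn : ∀ m ∈ M, b * m * b⁻¹ ∈ M) :
    Subgroup S where
  carrier := {x | x ∈ M ∨ b * x ∈ M}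
  one_mem' := Or.inl (one_mem _)
  mul_mem' := by
    rintro x y (hx | hx) (hy | hy)
    · exact Or.inl (mul_mem hx hy)
    · exact Or.inr (by simpa [mul_assoc] using mul_mem (hn x hx) hy)
    · exact Or.inr (by simpa [mul_assoc] using mul_mem hx hy)
    · refine Or.inl ?_
      have := mul_mem (mul_mem (inv_mem hb) (hn _ hx)) hy
      rwa [show (b * b)⁻¹ * (b * (b * x) * b⁻¹) * (b * y) = x * y by group] at this
  inv_mem' := by
    rintro x (hx | hx)
    · exact Or.inl (inv_mem hx)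
    · refine Or.inr ?_
      have := mul_mem (hn _ (inv_mem hx)) hb
      rwa [show b * (b * x)⁻¹ * b⁻¹ * (b * b) = b * x⁻¹ by group] at this

section
variable {M : Subgroup S} {b : S} {hb : b * b ∈ M} {hn : ∀ m ∈ M, b * m * b⁻¹ ∈ M}

theorem mem_ext2 {x : S} : x ∈ ext2 M b hb hn ↔ x ∈ M ∨ b * x ∈ M := Iff.rfl

theorem le_ext2 : M ≤ ext2 M b hb hn := fun _ h => Or.inl h

theorem self_mem_ext2 : b ∈ ext2 M b hb hn := Or.inr hb

end

theorem mem_zpowers_of_sq {z x : S} (hz : z * z = 1) : x ∈ zpowers z ↔ x = 1 ∨ x = z := by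
  constructor
  · rintro ⟨k, rfl⟩
    have h2 : z ^ (2 : ℤ) = 1 := by rw [zpow_two, hz]
    obtain ⟨j, rfl | rfl⟩ := Int.even_or_odd' k
    · left; simp [zpow_mul, h2]
    · right; simp [zpow_add, zpow_mul, h2]
  · rintro (rfl | rfl)
    exacts [one_mem _, mem_zpowers _]

theorem normal_zpowers_of_central {z : S} (hz : ∀ g, g * z = z * g) : (zpowers z).Normal :=
  ⟨by
    rintro _ ⟨k, rfl⟩ g
    have : g * z ^ k = z ^ k * g := (show Commute g z from hz g).zpow_right k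
    exact ⟨k, by simp [this]⟩⟩

variable [Finite S]

theorem lg_mono {H K : Subgroup S} (h : H ≤ K) : lg H ≤ lg K :=
  Nat.log_mono_right (card_le_of_le h)

theorem card_relIndex (H K : Subgroup S) :
    Nat.card (H ⊓ K : Subgroup S) * H.relIndex K = Nat.card K := by
  rw [← inf_relIndex_right, ← (((H ⊓ K).subgroupOf K).card_mul_index), relIndex,
    Nat.card_congr (subgroupOfEquivOfLe (inf_le_right : H ⊓ K ≤ K)).toEquiv]

theorem ncard_comm (L : Subgroup S) (x : S) :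
    {w | ∃ l ∈ L, w = x * l * x⁻¹ * l⁻¹}.ncard = (centralizer {x}).relIndex L := by
  let q : L ⧸ (centralizer ({x} : Set S)).subgroupOf L → S := fun c =>
    Quotient.liftOn' c (fun l => x * l * x⁻¹ * (l : S)⁻¹) (by
      intro l l' h
      rw [QuotientGroup.leftRel_apply, mem_subgroupOf, mem_C] at h
      push_cast at h
      calc _ = x * l * ((l : S)⁻¹ * l' * x⁻¹ * ((l : S)⁻¹ * l')⁻¹) * (l : S)⁻¹ := by
            rw [(show Commute ((l : S)⁻¹ * l') x from h).inv_right.eq]; group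
        _ = _ := by group)
  have hq : Function.Injective q := by
    intro c d h
    obtain ⟨l, rfl⟩ := QuotientGroup.mk_surjective c
    obtain ⟨l', rfl⟩ := QuotientGroup.mk_surjective d
    rw [QuotientGroup.eq, mem_subgroupOf, mem_C]
    change x * l * x⁻¹ * (l : S)⁻¹ = x * l' * x⁻¹ * (l' : S)⁻¹ at h
    push_cast
    calc _ = (l : S)⁻¹ * (x * l' * x⁻¹ * (l' : S)⁻¹)⁻¹ * (x * l') := by group
      _ = _ := by rw [← h]; group
  rw [relIndex, index, ← Set.ncard_range_of_injective hq]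
  congr 1
  ext w
  constructor
  · rintro ⟨l, hl, rfl⟩
    exact ⟨QuotientGroup.mk ⟨l, hl⟩, rfl⟩
  · rintro ⟨c, rfl⟩
    obtain ⟨l, rfl⟩ := QuotientGroup.mk_surjective c
    exact ⟨l, l.2, rfl⟩

variable [hS : Fact (IsPGroup 2 S)]

theorem card_eq_lg (H : Subgroup S) : Nat.card H = 2 ^ lg H := by
  obtain ⟨k, hk⟩ := (hS.out.to_subgroup H).exists_card_eq
  rw [lg_eq_of_card hk, hk]

theorem eq_of_le_of_lg_le {H K : Subgroup S} (h : H ≤ K) (h' : lg K ≤ lg H) : H = K :=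
  eq_of_le_of_card_ge h (by
    rw [card_eq_lg, card_eq_lg]; exact Nat.pow_le_pow_right (by norm_num) h')

theorem lg_lt {H K : Subgroup S} (h : H ≤ K) (h' : ¬ K ≤ H) : lg H < lg K := by
  by_contra h2
  exact h' (eq_of_le_of_lg_le h (by omega)).ge

theorem lg_lt' {H K : Subgroup S} (h : H ≤ K) {x : S} (hx : x ∈ K) (hx' : x ∉ H) : lg H < lg K :=
  lg_lt h fun h2 => hx' (h2 hx)

theorem exists_notMem_of_lg {H K : Subgroup S} (h : lg H < lg K) : ∃ x ∈ K, x ∉ H := by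
  by_contra h2
  push Not at h2
  exact absurd (lg_mono (H := K) h2) (by omega)

theorem lg_sup_add (H R : Subgroup S) [R.Normal] : lg (H ⊔ R) + lg (H ⊓ R) = lg H + lg R := by
  have := Fit.card_sup_mul_card_inf H R
  simp only [card_eq_lg, ← pow_add] at this
  exact Nat.pow_right_injective le_rfl this

theorem relIndex_eq_lg (H K : Subgroup S) : H.relIndex K = 2 ^ (lg K - lg (H ⊓ K)) := by
  have h1 := card_relIndex H K
  have h2 : lg (H ⊓ K) ≤ lg K := lg_mono inf_le_right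
  rw [card_eq_lg, card_eq_lg, ← Nat.add_sub_cancel' h2, pow_add] at h1
  exact Nat.eq_of_mul_eq_mul_left (by positivity) h1

theorem lg_le_succ {M K : Subgroup S} (h : ∀ x ∈ K, ∀ y ∈ K, x ∉ M → y ∉ M → x * y ∈ M) :
    lg K ≤ lg (M ⊓ K) + 1 := by
  have h1 : M.relIndex K ∣ 2 := by
    rw [relIndex_dvd_two_iff]
    by_cases h2 : ∀ x ∈ K, x ∈ M
    · exact ⟨1, one_mem _, fun b hb => Or.inr (h2 b hb)⟩
    · push Not at h2
      obtain ⟨a, ha, ha'⟩ := h2
      exact ⟨a, ha, fun b hb => (em (b ∈ M)).elim Or.inr fun h3 => Or.inl (h b hb a ha h3 ha')⟩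
  rw [relIndex_eq_lg] at h1
  have := (Nat.pow_dvd_pow_iff_le_right (show 1 < 2 by norm_num)).mp (h1.trans (pow_one 2).symm.dvd)
  omega

theorem mul_mem_of_lg {M K : Subgroup S} (hM : M ≤ K) (h : lg K ≤ lg M + 1) {x y : S} (hx : x ∈ K)
    (hy : y ∈ K) (hx' : x ∉ M) (hy' : y ∉ M) : x * y ∈ M := by
  have h1 := lg_lt' hM hx hx'
  have h2 : (M.subgroupOf K).index = 2 := by
    rw [← relIndex, relIndex_eq_lg, inf_of_le_left hM, show lg K - lg M = 1 by omega, pow_one]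
  have := (mul_mem_iff_of_index_two h2 (a := ⟨x, hx⟩) (b := ⟨y, hy⟩)).mpr
    (by simp [mem_subgroupOf, hx', hy'])
  exact this

theorem sq_mem_of_lg {M K : Subgroup S} (hM : M ≤ K) (h : lg K ≤ lg M + 1) {x : S} (hx : x ∈ K) :
    x * x ∈ M :=
  (em (x ∈ M)).elim (fun h => mul_mem h h) fun h' => mul_mem_of_lg hM h hx hx h' h'

theorem conj_mem_of_lg {M K : Subgroup S} (hM : M ≤ K) (h : lg K ≤ lg M + 1) {x m : S}
    (hx : x ∈ K) (hm : m ∈ M) : x * m * x⁻¹ ∈ M := by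
  by_cases h1 : x ∈ M
  · exact mul_mem (mul_mem h1 hm) (inv_mem h1)
  · exact mul_mem_of_lg hM h (mul_mem hx (hM hm)) (inv_mem hx) (by rwa [mul_mem_cancel_right hm])
      (by rwa [inv_mem_iff])

theorem lg_ext2_le {M : Subgroup S} {b : S} {hb : b * b ∈ M} {hn : ∀ m ∈ M, b * m * b⁻¹ ∈ M} :
    lg (ext2 M b hb hn) ≤ lg M + 1 := by
  have := lg_le_succ (M := M) (K := ext2 M b hb hn) fun x hx y hy hx' hy' => by
    have := mul_mem (mul_mem (inv_mem hb) (hn _ (hx.resolve_left hx'))) (hy.resolve_left hy')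
    rwa [show (b * b)⁻¹ * (b * (b * x) * b⁻¹) * (b * y) = x * y by group] at this
  rwa [inf_of_le_left le_ext2] at this

omit [Finite S] hS in
theorem lg_zpowers {z : S} (hz : z * z = 1) (h1 : z ≠ 1) : lg (zpowers z) = 1 :=
  lg_eq_of_card (by rw [Nat.card_zpowers, orderOf_eq_prime (by rw [sq, hz]) h1, pow_one])

omit [Finite S] hS in
theorem lg_of_isKleinFour {U : Subgroup S} (h : IsKleinFour U) : lg U = 2 :=
  lg_eq_of_card h.card_four

theorem lg_le_of_comm_mem {L W : Subgroup S} {x : S} (h : ∀ l ∈ L, x * l * x⁻¹ * l⁻¹ ∈ W) :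
    lg L ≤ lg W + lg (centralizer {x} ⊓ L) := by
  have h1 : {w | ∃ l ∈ L, w = x * l * x⁻¹ * l⁻¹}.ncard ≤ (W : Set S).ncard :=
    Set.ncard_le_ncard (by rintro _ ⟨l, hl, rfl⟩; exact h l hl)
  rw [ncard_comm, relIndex_eq_lg, ← Nat.card_coe_set_eq, SetLike.coe_sort_coe, card_eq_lg,
    Nat.pow_le_pow_iff_right (by norm_num)] at h1
  omega

theorem surj_of_lg {L W : Subgroup S} {x : S} (h : ∀ l ∈ L, x * l * x⁻¹ * l⁻¹ ∈ W)
    (h' : lg W + lg (centralizer {x} ⊓ L) ≤ lg L) {w : S} (hw : w ∈ W) :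
    ∃ l ∈ L, w = x * l * x⁻¹ * l⁻¹ := by
  have h1 : {w | ∃ l ∈ L, w = x * l * x⁻¹ * l⁻¹} = (W : Set S) :=
    Set.eq_of_subset_of_ncard_le (by rintro _ ⟨l, hl, rfl⟩; exact h l hl) (by
      rw [ncard_comm, relIndex_eq_lg, ← Nat.card_coe_set_eq, SetLike.coe_sort_coe, card_eq_lg,
        Nat.pow_le_pow_iff_right (by norm_num)]
      omega)
  exact h1.ge hw

theorem lg_ge_of_surj {L W : Subgroup S} {x : S} (h : ∀ w ∈ W, ∃ l ∈ L, w = x * l * x⁻¹ * l⁻¹) :
    lg W + lg (centralizer {x} ⊓ L) ≤ lg L := by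
  have h1 : (W : Set S).ncard ≤ {w | ∃ l ∈ L, w = x * l * x⁻¹ * l⁻¹}.ncard :=
    Set.ncard_le_ncard h
  have h2 : lg (centralizer {x} ⊓ L) ≤ lg L := lg_mono inf_le_right
  rw [ncard_comm, relIndex_eq_lg, ← Nat.card_coe_set_eq, SetLike.coe_sort_coe, card_eq_lg,
    Nat.pow_le_pow_iff_right (by norm_num)] at h1
  omega

omit [Finite S] in
theorem exists_sq_mem {W : Subgroup S} {x : S} (hx : x ∉ W) :
    ∃ k : ℕ, x ^ k ∉ W ∧ x ^ k * x ^ k ∈ W := by
  obtain ⟨n, hn⟩ := hS.out x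
  have h : x ^ 2 ^ n ∈ W := hn ▸ one_mem _
  clear hn
  induction n with
  | zero => exact absurd (by simpa using h) hx
  | succ n ih =>
    by_cases h2 : x ^ 2 ^ n ∈ W
    · exact ih h2
    · exact ⟨2 ^ n, h2, by rwa [← pow_add, ← two_mul, ← pow_succ']⟩

theorem exists_central_mem {M : Subgroup S} [hM : M.Normal] (h : M ≠ ⊥) :
    ∃ z ∈ M, z * z = 1 ∧ z ≠ 1 ∧ ∀ g, g * z = z * g := by
  have := hS.out.isNilpotent
  obtain ⟨x, hx, hx1, hx2⟩ := Fit.exists_central_mod (N := ⊥) (M := M) (by rwa [le_bot_iff])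
  obtain ⟨k, h1, h2⟩ := exists_sq_mem hx1
  refine ⟨x ^ k, pow_mem hx k, mem_bot.mp h2, fun h3 => h1 (mem_bot.mpr h3), fun g => ?_⟩
  have := hx2 g
  rw [mem_bot, mul_inv_eq_one, mul_inv_eq_iff_eq_mul] at this
  exact (show Commute g x from this).pow_right k

theorem exists_normalizer {N : Subgroup S} (h : N ≠ ⊤) :
    ∃ g, g ∉ N ∧ ∀ x, x ∈ N ↔ g * x * g⁻¹ ∈ N := by
  have := hS.out.isNilpotent
  obtain ⟨g, hg, hg'⟩ := SetLike.exists_of_lt
    (Group.normalizerCondition_of_isNilpotent (G := S) N h.lt_top)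
  exact ⟨g, hg', mem_normalizer_iff.mp hg⟩

theorem sectionalPRankLE_of_lg {k : ℕ}
    (h : ∀ H N : Subgroup S, N ≤ H → (∀ x ∈ H, x * x ∈ N) → lg H ≤ lg N + k) :
    SectionalPRankLE 2 k S := by
  intro H N _ A _ hA
  have h1 := h ((A.comap (QuotientGroup.mk' N)).map H.subtype) (N.map H.subtype)
    (map_mono fun x hx => by
      rw [mem_comap, QuotientGroup.mk'_apply, (QuotientGroup.eq_one_iff x).mpr hx]
      exact one_mem _) (by
    rintro _ ⟨x, hx, rfl⟩
    refine ⟨x * x, (QuotientGroup.eq_one_iff _).mp ?_, map_mul _ _ _⟩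
    rw [QuotientGroup.mk_mul, ← sq]
    exact hA _ hx)
  have h2 : Nat.card ((A.comap (QuotientGroup.mk' N)).map H.subtype) =
      Nat.card (N.map H.subtype) * Nat.card A := by
    rw [card_map_of_injective H.subtype_injective, card_map_of_injective H.subtype_injective]
    have := QuotientGroup.card_preimage_mk N (A : Set (H ⧸ N))
    exact this
  rw [card_eq_lg, card_eq_lg] at h2
  refine Nat.le_of_mul_le_mul_left (c := _) ?_ (show 0 < 2 ^ lg (N.map H.subtype) by positivity)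
  rw [← h2, ← pow_add]
  exact Nat.pow_le_pow_right (by norm_num) h1

theorem lg_comap_mk (W : Subgroup S) [W.Normal] (K : Subgroup (S ⧸ W)) :
    lg (K.comap (QuotientGroup.mk' W)) = lg W + lg K := by
  have : Fact (IsPGroup 2 (S ⧸ W)) := ⟨hS.out.to_quotient W⟩
  refine lg_eq_of_card ?_
  rw [pow_add, ← card_eq_lg, ← card_eq_lg]
  exact QuotientGroup.card_preimage_mk W (K : Set (S ⧸ W))

end Lg

end Cfsg.Agent.TwoGrp
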