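import Mathlib
import Cfsg.Agent.Lib.TwoGrp.Har1

/-!
# Taussky's theorem, normal four-subgroups, involutions with centralizer of order eight
-/

set_option autoImplicit false

namespace Cfsg.Agent.TwoGrp

open Subgroup

/-- Taussky: a 2-group whose derived subgroup has index at most four has a cyclic subgroup of
index at most two. -/
theorem taussky (n : ℕ) : ∀ (T : Type*) [Group T] [Finite T] [Fact (IsPGroup 2 T)],
    Nat.card T = n → lg (⊤ : Subgroup T) ≤ lg (commutator T) + 2 →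
      ∃ x : T, lg (⊤ : Subgroup T) ≤ lg (zpowers x) + 1 := by
  induction n using Nat.strong_induction_on with
  | _ n ih =>
  intro T _ _ hT hn h
  by_cases h0 : commutator T = ⊥
  · rw [h0, lg_bot] at h
    by_cases h1 : lg (⊤ : Subgroup T) ≤ 1
    · exact ⟨1, by omega⟩
    · obtain ⟨x, -, hx⟩ := exists_notMem_of_lg (H := ⊥) (K := (⊤ : Subgroup T)) (by
        rw [lg_bot]; omega)
      have := lg_lt' (bot_le : ⊥ ≤ zpowers x) (mem_zpowers x) hx
      exact ⟨x, by omega⟩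
  obtain ⟨z, hz, hz2, hz1, hzc⟩ := exists_central_mem h0
  have := normal_zpowers_of_central hzc
  have : Fact (IsPGroup 2 (T ⧸ zpowers z)) := ⟨hT.out.to_quotient _⟩
  have hZ := lg_zpowers hz2 hz1
  have h1 := lg_comap_mk (zpowers z) ⊤
  have h2 := lg_comap_mk (zpowers z) (commutator _)
  rw [comap_top] at h1
  have h3 : (commutator (T ⧸ zpowers z)).comap (QuotientGroup.mk' _) = commutator T := by
    rw [_root_.commutator_def (T ⧸ zpowers z), ← map_top_of_surjective _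
      (QuotientGroup.mk'_surjective (zpowers z)), ← map_commutator, comap_map_eq,
      QuotientGroup.ker_mk']
    exact sup_eq_left.mpr (zpowers_le.mpr hz)
  rw [h3] at h2
  obtain ⟨x, hx⟩ := ih (Nat.card (T ⧸ zpowers z)) (by
    rw [← hn, ← card_top, ← card_top (G := T), card_eq_lg, card_eq_lg]
    exact Nat.pow_lt_pow_right (by norm_num) (by omega)) (T ⧸ zpowers z) rfl (by omega)
  obtain ⟨x, rfl⟩ := QuotientGroup.mk_surjective x
  have h4 := lg_comap_mk (zpowers z) (zpowers (x : T ⧸ zpowers z))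
  set X := (zpowers (x : T ⧸ zpowers z)).comap (QuotientGroup.mk' _) with hX
  have hmem : ∀ w ∈ X, ∃ k : ℤ, w = x ^ k ∨ w = x ^ k * z := by
    rintro w ⟨k, hk⟩
    have : (x ^ k)⁻¹ * w ∈ zpowers z := QuotientGroup.eq.mp hk
    rcases (mem_zpowers_of_sq hz2).mp this with h5 | h5
    · exact ⟨k, Or.inl (inv_mul_eq_one.mp h5).symm⟩
    · exact ⟨k, Or.inr (inv_mul_eq_iff_eq_mul.mp h5)⟩
  by_cases hzx : z ∈ zpowers x
  · refine ⟨x, le_trans (by omega) (Nat.succ_le_succ (lg_mono (H := X) fun w hw => ?_))⟩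
    obtain ⟨k, rfl | rfl⟩ := hmem w hw
    exacts [zpow_mem_zpowers _ _, mul_mem (zpow_mem_zpowers _ _) hzx]
  have hxX : x ∈ X := mem_zpowers (x : T ⧸ zpowers z)
  have hcomm : ∀ w ∈ X, ∀ w' ∈ X, Commute w w' := by
    have h5 : ∀ w ∈ X, Commute w x := fun w hw => by
      obtain ⟨k, rfl | rfl⟩ := hmem w hw
      exacts [(Commute.refl x).zpow_left k, ((Commute.refl x).zpow_left k).mul_left (hzc x).symm]
    intro w hw w' hw'
    obtain ⟨k, rfl | rfl⟩ := hmem w' hw'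
    exacts [(h5 w hw).zpow_right k, ((h5 w hw).zpow_right k).mul_right (hzc w)]
  have hnc : ¬ ∀ a b : T, Commute a b := fun h5 =>
    h0 (by rw [_root_.commutator_def, commutator_eq_bot_iff_le_centralizer]; exact fun a _ b _ => h5 b a)
  obtain ⟨y, hy⟩ : ∃ y, y ∉ X := by
    by_contra h5
    push Not at h5
    exact hnc fun a b => hcomm a (h5 a) b (h5 b)
  have hlg : lg (⊤ : Subgroup T) ≤ lg X + 1 := by omega
  have hconj : ∀ g, ∀ w ∈ X, g * w * g⁻¹ ∈ X := fun g w hw =>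
    conj_mem_of_lg le_top hlg (mem_top g) hw
  have hdec : ∀ g, g ∈ X ∨ ∃ w ∈ X, g = y * w := fun g => by
    by_cases hg : g ∈ X
    · exact Or.inl hg
    · exact Or.inr ⟨y⁻¹ * g, mul_mem_of_lg le_top hlg (mem_top _) (mem_top _)
        (by rwa [inv_mem_iff]) hg, by group⟩
  -- the commutator subgroup consists of the commutators `[y, w]`
  let P : Subgroup T :=
    { carrier := {c | ∃ w ∈ X, c = y * w * y⁻¹ * w⁻¹}
      one_mem' := ⟨1, one_mem _, by group⟩
      mul_mem' := by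
        rintro _ _ ⟨w, hw, rfl⟩ ⟨w', hw', rfl⟩
        refine ⟨w * w', mul_mem hw hw', ?_⟩
        calc _ = y * w * y⁻¹ * (w⁻¹ * (y * w' * y⁻¹ * w'⁻¹)) := by group
          _ = _ := by
            rw [(hcomm _ (inv_mem hw) _ (mul_mem (hconj y _ hw') (inv_mem hw'))).eq]; group
      inv_mem' := by
        rintro _ ⟨w, hw, rfl⟩
        refine ⟨w⁻¹, inv_mem hw, ?_⟩
        rw [inv_inv, (hcomm _ (hconj y _ (inv_mem hw)) _ hw).eq]; group }
  have hP : commutator T ≤ P := by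
    rw [_root_.commutator_def, commutator_le]
    have h5 : ∀ g, ∀ w ∈ X, g * w * g⁻¹ * w⁻¹ ∈ P := fun g w hw => by
      rcases hdec g with hg | ⟨v, hv, rfl⟩
      · rw [(hcomm g hg w hw).eq]; simpa using one_mem P
      · refine ⟨w, hw, ?_⟩
        rw [mul_assoc y, (hcomm v hv w hw).eq]; group
    intro g _ g' _
    rw [commutatorElement_def]
    rcases hdec g' with hg' | ⟨v', hv', rfl⟩
    · exact h5 g g' hg'
    rcases hdec g with hg | ⟨v, hv, rfl⟩
    · simpa [mul_assoc] using inv_mem (h5 (y * v') g hg)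
    · have := h5 (y * v) (y * (v' * v⁻¹) * y⁻¹) (hconj y _ (mul_mem hv' (inv_mem hv)))
      rwa [show y * v * (y * (v' * v⁻¹) * y⁻¹) * (y * v)⁻¹ * (y * (v' * v⁻¹) * y⁻¹)⁻¹ =
        y * v * (y * v') * (y * v)⁻¹ * (y * v)⁻¹ * (y * v) * (y * v')⁻¹ by group,
        inv_mul_cancel_right] at this
  have h5 := lg_ge_of_surj (L := X) (W := P) (x := y) fun w hw => hw
  have h6 := lg_mono hP
  have h7 := lg_lt' (le_top : X ≤ ⊤) (mem_top y) hy
  have h8 : zpowers z = centralizer {y} ⊓ X := eq_of_le_of_lg_le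
    (zpowers_le.mpr (mem_inf.mpr ⟨mem_C.mpr (hzc y).symm, by
      rw [hX, mem_comap, QuotientGroup.mk'_apply, (QuotientGroup.eq_one_iff z).mpr (mem_zpowers z)]
      exact one_mem _⟩)) (by omega)
  have hsq : ∀ w ∈ X, w * w ∈ zpowers (x * x) := fun w hw => by
    obtain ⟨k, rfl | rfl⟩ := hmem w hw
    · exact ⟨k, (Commute.refl x).mul_zpow k⟩
    · refine ⟨k, ((Commute.refl x).mul_zpow k).trans ?_⟩
      rw [mul_assoc, ← mul_assoc z, ← hzc, mul_assoc _ z, hz2, mul_one]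
  have hx2 : x * x = 1 := by
    by_contra h9
    have : (zpowers (x * x)).Normal := ⟨by
      rintro _ ⟨k, rfl⟩ g
      rw [← conj_zpow, ← conj_mul]
      exact zpow_mem (hsq _ (hconj g x hxX)) k⟩
    obtain ⟨z', hz', -, hz'1, hz'c⟩ := exists_central_mem (M := zpowers (x * x))
      (by rwa [Ne, zpowers_eq_bot])
    have h10 : z' ∈ zpowers x := zpowers_le.mpr (mul_mem (mem_zpowers x) (mem_zpowers x)) hz'
    have h11 : z' ∈ zpowers z := h8 ▸ ⟨mem_C.mpr (hz'c y).symm, zpowers_le.mpr hxX h10⟩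
    rcases (mem_zpowers_of_sq hz2).mp h11 with rfl | rfl
    exacts [hz'1 rfl, hzx h10]
  have h9 : lg (zpowers (x : T ⧸ zpowers z)) ≤ 1 := by
    by_cases h10 : (x : T ⧸ zpowers z) = 1
    · rw [h10, zpowers_one_eq_bot, lg_bot]; omega
    · rw [lg_zpowers (by rw [← QuotientGroup.mk_mul, hx2, QuotientGroup.mk_one]) h10]
  obtain ⟨g, hg⟩ : ∃ g : T, g * g ≠ 1 := by
    by_contra h10
    push Not at h10
    exact hnc fun a b => comm_of_sq (A := ⊤) (fun x _ => h10 x) (mem_top a) (mem_top b)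
  have h10 := lg_lt' (bot_le : ⊥ ≤ zpowers (g * g)) (mem_zpowers _) (by rwa [mem_bot])
  have h11 := lg_lt' (zpowers_le.mpr (mul_mem (mem_zpowers g) (mem_zpowers g))) (mem_zpowers g)
    (fun h12 => by
      obtain ⟨k, hk⟩ := hT.out g
      have h13 : ∀ j : ℕ, g ∈ zpowers (g ^ 2 ^ j) := fun j => by
        induction j with
        | zero => simp
        | succ j ihj =>
          obtain ⟨i, hi⟩ := h12
          obtain ⟨l, hl⟩ := ihj
          refine ⟨l * i, ?_⟩
          simp only at hi hl ⊢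
          calc _ = ((g ^ 2 ^ j) ^ l * (g ^ 2 ^ j) ^ l) ^ i := by
                rw [pow_succ, pow_mul, sq, zpow_mul, (Commute.refl _).mul_zpow]
            _ = g := by rw [hl, hi]
      have := h13 k
      rw [hk, zpowers_one_eq_bot, mem_bot] at this
      exact hg (by rw [this, mul_one]))
  rw [lg_bot] at h10
  exact ⟨g, by omega⟩

variable {S : Type*} [Group S] [Finite S] [hS : Fact (IsPGroup 2 S)]

omit [Finite S] hS in
theorem lg_map_subtype {T : Subgroup S} (K : Subgroup T) : lg (K.map T.subtype) = lg K := by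
  rw [lg, lg, card_map_of_injective T.subtype_injective]

omit [Finite S] hS in
theorem lg_le_one_of_le_zpowers {A : Subgroup S} {x : S} (h : A ≤ zpowers x)
    (hA : ∀ a ∈ A, a * a = 1) : lg A ≤ 1 := by
  have : IsCyclic A := isCyclic_of_le h
  obtain ⟨g, hg⟩ := IsCyclic.exists_generator (α := A)
  have h1 : Nat.card A ∣ 2 := by
    rw [← orderOf_eq_card_of_forall_mem_zpowers hg]
    exact orderOf_dvd_of_pow_eq_one (Subtype.ext (by rw [sq]; exact hA g g.2))
  exact (Nat.log_mono_right (Nat.le_of_dvd two_pos h1)).trans (by norm_num)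

theorem lg_commutator_add_three_le {T A : Subgroup S} (hAT : A ≤ T) (hA : ∀ a ∈ A, a * a = 1)
    (h : 3 ≤ lg A) : lg ⁅T, T⁆ + 3 ≤ lg T := by
  by_contra h1
  have : Fact (IsPGroup 2 T) := ⟨hS.out.to_subgroup T⟩
  have h2 : lg (⊤ : Subgroup T) = lg T := by rw [← lg_map_subtype, ← MonoidHom.range_eq_map,
    range_subtype]
  obtain ⟨x, hx⟩ := taussky _ T rfl (by
    rw [h2, ← lg_map_subtype, map_subtype_commutator]; omega)
  rw [h2, ← lg_map_subtype, MonoidHom.map_zpowers] at hx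
  have h3 := lg_le_succ (M := zpowers (x : S)) (K := A) fun a ha b hb ha' hb' =>
    mul_mem_of_lg (zpowers_le.mpr x.2) hx (hAT ha) (hAT hb) ha' hb'
  have h4 := lg_le_one_of_le_zpowers (A := zpowers (x : S) ⊓ A) inf_le_left fun a ha => hA a ha.2
  omega

/-- If `C_T(t)` is elementary of order eight, every element of `T'` is a commutator `[t, g]`. -/
theorem commutator_surj {T : Subgroup S} {t : S} (ht : t ∈ T)
    (hA : ∀ a ∈ centralizer {t} ⊓ T, a * a = 1) (h : lg (centralizer {t} ⊓ T) = 3) :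
    lg T = lg ⁅T, T⁆ + 3 ∧ ∀ r ∈ ⁅T, T⁆, ∃ g ∈ T, r = t * g * t⁻¹ * g⁻¹ := by
  have h1 := lg_commutator_add_three_le inf_le_right hA h.ge
  have h2 : ∀ g ∈ T, t * g * t⁻¹ * g⁻¹ ∈ ⁅T, T⁆ := fun g hg => commutator_mem_commutator ht hg
  have h3 := lg_le_of_comm_mem h2
  exact ⟨by omega, fun r hr => surj_of_lg h2 (by omega) hr⟩

/-- A normal four-subgroup `{1, z, u, u z}` of a 2-group, with `z` central. -/
structure NF (S : Type*) [Group S] where
  z : S
  u : S
  z2 : z * z = 1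
  z1 : z ≠ 1
  zc : ∀ g, g * z = z * g
  u2 : u * u = 1
  u1 : u ≠ 1
  uz : u ≠ z
  conj : ∀ g, g * u * g⁻¹ = u ∨ g * u * g⁻¹ = u * z

theorem exists_NF {A : Subgroup S} (hA : ∀ a ∈ A, a * a = 1) (h : 3 ≤ lg A) : Nonempty (NF S) := by
  have := hS.out.isNilpotent
  obtain ⟨B, -, hB, hBc, hBC⟩ := Fit.exists_abelian_normal_centralizer_eq (⊥ : Subgroup S)
  have hcomm : ∀ x ∈ B, ∀ y ∈ B, Commute x y := fun x hx y hy =>
    congrArg Subtype.val (hBc.is_comm.comm (⟨x, hx⟩ : B) ⟨y, hy⟩)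
  let Ω : Subgroup S :=
    { carrier := {x | x ∈ B ∧ x * x = 1}
      one_mem' := ⟨one_mem _, mul_one 1⟩
      mul_mem' := fun {a b} ha hb => ⟨mul_mem ha.1 hb.1, by
        rw [← sq, (hcomm a ha.1 b hb.1).mul_pow, sq, sq, ha.2, hb.2, mul_one]⟩
      inv_mem' := fun {a} ha => ⟨inv_mem ha.1, by rw [← mul_inv_rev, ha.2, inv_one]⟩ }
  have hΩ : Ω.Normal := ⟨fun a ha g => ⟨hB.conj_mem a ha.1 g, by rw [conj_mul, ha.2]; simp⟩⟩
  obtain ⟨z, hz, hz2, hz1, hzc⟩ := exists_central_mem (M := B) (by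
    rintro rfl
    have h1 : A ≤ ⊥ := by
      rw [← hBC]; exact fun a _ => by simp [mem_centralizer_iff]
    have := lg_mono h1
    rw [lg_bot] at this
    omega)
  have hZ := normal_zpowers_of_central hzc
  have hmem := fun x => mem_zpowers_of_sq (x := x) hz2
  by_cases hΩZ : Ω ≤ zpowers z
  swap
  · obtain ⟨u, hu, hu1, hu2⟩ := Fit.exists_central_mod hΩZ
    refine ⟨⟨z, u, hz2, hz1, hzc, hu.2, fun h => hu1 (h ▸ one_mem _),
      fun h => hu1 (h ▸ mem_zpowers _), fun g => ?_⟩⟩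
    rcases (hmem _).mp (hu2 g) with h1 | h1
    · exact Or.inl (mul_inv_eq_one.mp h1)
    · exact Or.inr (by rw [hzc u]; exact mul_inv_eq_iff_eq_mul.mp h1)
  have hU : ∀ x ∈ B, x * x = 1 → x ∈ zpowers z := fun x hx hx2 => hΩZ ⟨hx, hx2⟩
  have hZc : ∀ c ∈ zpowers z, ∀ g, g * c * g⁻¹ = c := fun c hc g => by
    rcases (hmem _).mp hc with rfl | rfl
    · simp
    · rw [hzc]; simp
  have h4 : ∀ x ∈ B, x ∉ zpowers z → ∃ k : ℕ, x ^ k * x ^ k = z := fun x hx hx' => by
    obtain ⟨k, h1, h2⟩ := exists_sq_mem hx'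
    exact ⟨k, ((hmem _).mp h2).resolve_left fun h3 => h1 (hU _ (pow_mem hx k) h3)⟩
  have h5 : ∀ x ∈ B, ∀ y ∈ B, x * x = z → y * y = z → x * y ∈ zpowers z := fun x hx y hy h1 h2 =>
    hU _ (mul_mem hx hy) (by rw [← sq, (hcomm x hx y hy).mul_pow, sq, sq, h1, h2, hz2])
  have h6 : ∀ e : S, e * e = 1 → (∀ x ∈ B, e * x * e⁻¹ * x⁻¹ ∈ zpowers z) ∨
      ∀ x ∈ B, e * x * e⁻¹ * x ∈ zpowers z := by
    intro e he
    by_contra h1
    push Not at h1
    obtain ⟨⟨x, hx, h1⟩, y, hy, h2⟩ := h1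
    have he' : e⁻¹ = e := inv_eq_of_mul_eq_one_right he
    have hw : e * x * e⁻¹ * x⁻¹ ∈ B := mul_mem (hB.conj_mem x hx e) (inv_mem hx)
    have hw' : e * y * e⁻¹ * y ∈ B := mul_mem (hB.conj_mem y hy e) hy
    have e1 : e * (e * x * e⁻¹ * x⁻¹) * e⁻¹ = (e * x * e⁻¹ * x⁻¹)⁻¹ := by
      calc _ = e * e * x * (e * e)⁻¹ * (e * x⁻¹ * e⁻¹) := by group
        _ = _ := by rw [he]; group
    have e2 : e * (e * y * e⁻¹ * y) * e⁻¹ = e * y * e⁻¹ * y := by
      calc _ = e * e * y * (e * e)⁻¹ * (e * y * e⁻¹) := by group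
        _ = _ := by rw [he, (hcomm _ (hB.conj_mem y hy e) y hy).eq]; group
    obtain ⟨k, hk⟩ := h4 _ hw h1
    obtain ⟨l, hl⟩ := h4 _ hw' h2
    have e3 := hZc _ (h5 _ (pow_mem hw k) _ (pow_mem hw' l) hk hl) e
    rw [← conj_mul, ← conj_pow, ← conj_pow, e1, e2, mul_left_inj, inv_pow,
      inv_eq_iff_mul_eq_one, hk] at e3
    exact hz1 e3
  let P : Subgroup S := (centralizer (B.map (QuotientGroup.mk' (zpowers z)))).comap
    (QuotientGroup.mk' (zpowers z))
  have hP : ∀ g, g ∈ P ↔ ∀ x ∈ B, g * x * g⁻¹ * x⁻¹ ∈ zpowers z := fun g => by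
    simp only [P, mem_comap, mem_centralizer_iff, SetLike.mem_coe, mem_map, forall_exists_index,
      and_imp, forall_apply_eq_imp_iff₂]
    refine forall₂_congr fun x _ => ?_
    rw [← QuotientGroup.eq_one_iff, eq_comm, ← mul_inv_eq_one, mul_inv_rev, ← mul_assoc]
    rfl
  have h7 := lg_le_succ (M := P) (K := A) fun a ha b hb ha' hb' => (hP _).mpr fun x hx => by
    have h1 := (h6 a (hA a ha)).resolve_left (by rwa [← hP])
    have h2 := (h6 b (hA b hb)).resolve_left (by rwa [← hP])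
    have := mul_mem (hZ.conj_mem _ (h2 x hx) a) (inv_mem (hZ.conj_mem _ (h1 x hx) x))
    rwa [show a * (b * x * b⁻¹ * x) * a⁻¹ * (x * (a * x * a⁻¹ * x) * x⁻¹)⁻¹ =
      a * b * x * (a * b)⁻¹ * x⁻¹ by group] at this
  have hlgZ := lg_zpowers hz2 hz1
  obtain ⟨e, ⟨heP, heA⟩, heZ⟩ := exists_notMem_of_lg (H := zpowers z) (K := P ⊓ A) (by omega)
  have heB : e ∉ B := fun h1 => heZ (hU e h1 (hA e heA))
  have hcyc : IsCyclic B := by
    refine Fit.isCyclic_of_isMulCommutative_of_unique (p := 2) (hS.out.to_subgroup B) ?_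
    suffices ∀ H : Subgroup B, Nat.card H = 2 → H = zpowers ⟨z, hz⟩ from
      fun H K hH hK => (this H hH).trans (this K hK).symm
    intro H hH
    refine eq_of_le_of_card_ge (fun y hy => ?_) ?_
    · have h1 : (⟨y, hy⟩ : H) ^ 2 = 1 := hH ▸ pow_card_eq_one'
      have h2 : (y : S) * y = 1 := by
        simpa [sq] using congrArg (fun t : H => ((t : B) : S)) h1
      rcases (hmem _).mp (hU _ y.2 h2) with h3 | h3
      · rw [show y = 1 from Subtype.ext h3]; exact one_mem _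
      · rw [show y = ⟨z, hz⟩ from Subtype.ext h3]; exact mem_zpowers _
    · rw [hH, Nat.card_zpowers, orderOf_eq_prime (p := 2) (Subtype.ext (by rw [sq]; exact hz2))
        fun h1 => hz1 (congrArg Subtype.val h1)]
  obtain ⟨⟨x, hx⟩, hgen⟩ := hcyc.exists_generator
  have h8 : ∀ g, Commute g x → g ∈ B := fun g hg => by
    rw [← hBC]
    intro y hy
    obtain ⟨k, hk⟩ := hgen ⟨y, hy⟩
    rw [← show x ^ k = y from congrArg Subtype.val hk]
    exact (hg.zpow_right k).symm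
  have h9 : ∀ g, g * x * g⁻¹ * x⁻¹ ∈ zpowers z → g ∉ B → g * x * g⁻¹ = z * x := fun g hg hg' =>
    mul_inv_eq_iff_eq_mul.mp (((hmem _).mp hg).resolve_left fun h1 => hg' (h8 g (by
      rwa [mul_inv_eq_one, mul_inv_eq_iff_eq_mul] at h1)))
  have h10 : ∀ g g' : S, g * x * g⁻¹ = z * x → g' * x * g'⁻¹ = z * x → g * g' ∈ B := by
    intro g g' h1 h2
    refine h8 _ (mul_inv_eq_iff_eq_mul.mp ?_)
    calc _ = g * (g' * x * g'⁻¹) * g⁻¹ := by group
      _ = z * (g * x * g⁻¹) := by rw [h2, ← mul_assoc, hzc]; group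
      _ = x := by rw [h1, ← mul_assoc, hz2, one_mul]
  have he2 := hA e heA
  refine ⟨⟨z, e, hz2, hz1, hzc, he2, fun h => heZ (h ▸ one_mem _),
    fun h => heZ (h ▸ mem_zpowers _), fun g => ?_⟩⟩
  have h11 : e * (g * e * g⁻¹) ∈ B := by
    refine h10 _ _ (h9 e ((hP e).mp heP x hx) heB) (h9 _ ?_ fun h1 => heB ?_)
    · simpa [mul_assoc] using hZ.conj_mem _ ((hP e).mp heP _ (hB.conj_mem x hx g⁻¹)) g
    · simpa [mul_assoc] using hB.conj_mem _ h1 g⁻¹
  obtain ⟨y, hy⟩ : ∃ y, g * e * g⁻¹ = e * y := ⟨e⁻¹ * (g * e * g⁻¹), by group⟩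
  rw [hy, ← mul_assoc, he2, one_mul] at h11
  by_cases hyZ : y ∈ zpowers z
  · rcases (hmem _).mp hyZ with rfl | rfl
    exacts [Or.inl (by rw [hy, mul_one]), Or.inr hy]
  exfalso
  have h12 : e * y * e⁻¹ * y⁻¹ * (y * y) = 1 := by
    rw [inv_eq_of_mul_eq_one_right he2]
    calc _ = e * y * (e * y) := by group
      _ = 1 := by rw [← hy, conj_mul, he2]; simp
  rcases (hmem _).mp ((hP e).mp heP y h11) with h13 | h13
  · rw [h13, one_mul] at h12
    exact hyZ (hU y h11 h12)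
  have h14 : y * y = z := by
    rw [h13] at h12
    rw [eq_inv_of_mul_eq_one_right h12, inv_eq_of_mul_eq_one_right hz2]
  have h15 : x * x ∈ zpowers z := by
    by_contra h1
    obtain ⟨k, hk⟩ := h4 _ (mul_mem hx hx) h1
    have h2 : e * (x * x) * e⁻¹ = x * x := by
      rw [← conj_mul, h9 e ((hP e).mp heP x hx) heB, mul_assoc, ← mul_assoc x, hzc, ← mul_assoc,
        ← mul_assoc, hz2, one_mul]
    have h3 := hZc _ (h5 _ (pow_mem (mul_mem hx hx) k) y h11 hk h14) e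
    rw [← conj_mul, ← conj_pow, h2, mul_right_inj] at h3
    rw [h3, mul_inv_cancel] at h13
    exact hz1 h13.symm
  have h16 : ∀ g, g * x * g⁻¹ * x⁻¹ ∈ zpowers z := fun g =>
    hU _ (mul_mem (hB.conj_mem x hx g) (inv_mem hx)) (by
      rw [← sq, (hcomm _ (hB.conj_mem x hx g) _ (inv_mem hx)).mul_pow, conj_pow, inv_pow, sq,
        hZc _ h15, mul_inv_cancel])
  have h17 := lg_le_succ (M := B) (K := A) fun a _ b _ ha hb =>
    h10 _ _ (h9 a (h16 a) ha) (h9 b (h16 b) hb)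
  have h18 := lg_mono (show B ⊓ A ≤ zpowers z from fun a ha => hU a ha.1 (hA a ha.2))
  omega

end Cfsg.Agent.TwoGrp
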